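import Groth.Agent.GrpLike79.FG
import Mathlib.RingTheory.Norm.Defs
import Mathlib.RingTheory.TensorProduct.Free
import Mathlib.RingTheory.Flat.Basic
import Mathlib.FieldTheory.IsAlgClosed.AlgebraicClosure
import Mathlib.FieldTheory.IntermediateField.Adjoin.Algebra
import Mathlib.RingTheory.Noetherian.Basic
import Mathlib.RingTheory.Finiteness.Basic

/-!
# Group-like elements over an arbitrary field
-/

set_option autoImplicit false

universe u v

open TensorProduct Coalgebra

namespace Groth.Agent.GrpLike79

variable {k : Type u} [Field k]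

section Norm

variable {L : Type v} [Field L] [Algebra k L] [FiniteDimensional k L]
variable {R R' : Type v} [CommRing R] [Algebra k R] [CommRing R'] [Algebra k R']

theorem norm_map (φ : R →ₐ[k] R') (x : R ⊗[k] L) :
    Algebra.norm R' (Algebra.TensorProduct.map φ (AlgHom.id k L) x) = φ (Algebra.norm R x) := by
  classical
  let b := Module.finBasis k L
  let B := Algebra.TensorProduct.basis R b
  let B' := Algebra.TensorProduct.basis R' b
  rw [Algebra.norm_eq_matrix_det B, Algebra.norm_eq_matrix_det B', φ.map_det, AlgHom.mapMatrix_apply]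
  congr 1
  ext i j
  rw [Matrix.map_apply, Algebra.leftMulMatrix_eq_repr_mul, Algebra.leftMulMatrix_eq_repr_mul]
  have hj : B' j = Algebra.TensorProduct.map φ (AlgHom.id k L) (B j) := by
    simp [B, B']
  rw [hj, ← map_mul]
  generalize x * B j = y
  induction y using TensorProduct.induction_on with
  | zero => simp
  | add p q hp hq => simp [map_add, hp, hq]
  | tmul r c => simp [B, B', Algebra.TensorProduct.basis_repr_tmul, map_mul, AlgHom.commutes]

theorem norm_one_tmul_base (r : R) :
    Algebra.norm R (r ⊗ₜ[k] (1 : L)) = r ^ Module.finrank k L := by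
  rw [show r ⊗ₜ[k] (1 : L) = algebraMap R (R ⊗[k] L) r from rfl,
    Algebra.norm_algebraMap_of_basis (Algebra.TensorProduct.basis R (Module.finBasis k L)), Fintype.card_fin]

end Norm

variable {A : Type u} [CommRing A] [HopfAlgebra k A]

/-- Inclusion of the group-like elements into those of a base change. -/
noncomputable def baseChangeHom (K : Type u) [Field K] [Algebra k K] :
    GroupLike k A →* GroupLike K (K ⊗[k] A) where
  toFun a := ⟨1 ⊗ₜ a.val, ⟨by simp [TensorProduct.counit_tmul, a.2.counit_eq_one], by
    rw [TensorProduct.comul_tmul, a.2.comul_eq_tmul_self, CommSemiring.comul_apply]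
    simp⟩⟩
  map_one' := GroupLike.val_injective (by simp [Algebra.TensorProduct.one_def])
  map_mul' a b := GroupLike.val_injective (by simp)

theorem baseChangeHom_injective (K : Type u) [Field K] [Algebra k K] :
    Function.Injective (baseChangeHom (k := k) (A := A) K) := fun a b h => by
  apply GroupLike.val_injective
  exact Algebra.TensorProduct.includeRight_injective (A := K) (B := A)
    (algebraMap k K).injective (congrArg GroupLike.val h)

theorem groupFG_of_injective {G H : Type*} [CommGroup G] [CommGroup H] [Group.FG H] (f : G →* H)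
    (hf : Function.Injective f) : Group.FG G := by
  have : Module.Finite ℤ (Additive H) := Module.Finite.iff_addGroup_fg.2 (GroupFG.iff_add_fg.1 ‹_›)
  let g : Additive G →ₗ[ℤ] Additive H := f.toAdditive.toIntLinearMap
  have : Module.Finite ℤ (Additive G) := Module.Finite.of_injective g hf
  exact GroupFG.iff_add_fg.2 (Module.Finite.iff_addGroup_fg.1 this)

variable [Coalgebra.IsCocomm k A]

/-- The group-like elements of a finitely generated commutative cocommutative Hopf algebra form a
finitely generated group. -/
theorem groupLike_fg_of_field [Algebra.FiniteType k A] : Group.FG (GroupLike k A) :=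
  haveI : Group.FG (GroupLike (AlgebraicClosure k) (AlgebraicClosure k ⊗[k] A)) := groupLike_fg
  groupFG_of_injective (baseChangeHom (AlgebraicClosure k)) (baseChangeHom_injective _)

variable {B : Type u} [CommRing B] [HopfAlgebra k B] [Coalgebra.IsCocomm k B]

/-- A positive power of every group-like element of a quotient lifts. -/
theorem exists_pow_lift (π : A →ₐc[k] B) (hπ : Function.Surjective π) (g : GroupLike k B) :
    ∃ n : ℕ, 0 < n ∧ ∃ a : GroupLike k A, π a.val = g.val ^ n := by
  classical
  let K := AlgebraicClosure k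
  let πK : K ⊗[k] A →ₐc[K] K ⊗[k] B := Bialgebra.TensorProduct.map (BialgHom.id K K) π
  have hπK : Function.Surjective πK := by
    intro y
    induction y using TensorProduct.induction_on with
    | zero => exact ⟨0, map_zero _⟩
    | add p q hp hq => obtain ⟨a, rfl⟩ := hp; obtain ⟨b, rfl⟩ := hq; exact ⟨a + b, map_add _ _ _⟩
    | tmul c b => obtain ⟨a, rfl⟩ := hπ b; exact ⟨c ⊗ₜ a, Bialgebra.TensorProduct.map_tmul _ _ _ _⟩
  obtain ⟨a₀, ha₀, hga⟩ := exists_lift_of_surjective πK.toCoalgHom hπK
    (baseChangeHom (k := k) (A := B) K g).2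
  -- move the scalars to the right
  let σ := (Algebra.TensorProduct.comm k K A).toAlgHom
  let j₁ : A →ₐ[k] A ⊗[k] A := Algebra.TensorProduct.includeLeft
  let j₂ : A →ₐ[k] A ⊗[k] A := Algebra.TensorProduct.includeRight
  let i₁ : K →ₐ[k] (A ⊗[k] A) ⊗[k] K := Algebra.TensorProduct.includeRight
  let e₁ : K ⊗[k] A →ₐ[k] (A ⊗[k] A) ⊗[k] K := (Algebra.TensorProduct.map j₁ (AlgHom.id k K)).comp σ
  let e₂ : K ⊗[k] A →ₐ[k] (A ⊗[k] A) ⊗[k] K := (Algebra.TensorProduct.map j₂ (AlgHom.id k K)).comp σ
  let eΔ : K ⊗[k] A →ₐ[k] (A ⊗[k] A) ⊗[k] K :=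
    (Algebra.TensorProduct.map (Bialgebra.comulAlgHom k A) (AlgHom.id k K)).comp σ
  have hrel : eΔ a₀ = e₁ a₀ * e₂ a₀ := by
    let _ : Algebra K ((A ⊗[k] A) ⊗[k] K) := Algebra.TensorProduct.rightAlgebra
    let f₁ : K ⊗[k] A →ₗ[K] (A ⊗[k] A) ⊗[k] K :=
      { toFun := e₁, map_add' := map_add e₁, map_smul' := fun c x => by
          rw [Algebra.smul_def, map_mul, RingHom.id_apply, Algebra.smul_def]
          congr 1 }
    let f₂ : K ⊗[k] A →ₗ[K] (A ⊗[k] A) ⊗[k] K :=
      { toFun := e₂, map_add' := map_add e₂, map_smul' := fun c x => by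
          rw [Algebra.smul_def, map_mul, RingHom.id_apply, Algebra.smul_def]
          congr 1 }
    let μ := TensorProduct.lift (R := K) ((LinearMap.mul K ((A ⊗[k] A) ⊗[k] K)).compl₁₂ f₁ f₂)
    have key : ∀ x : K ⊗[k] A, μ (comul (R := K) x) = eΔ x := by
      intro x
      induction x using TensorProduct.induction_on with
      | zero => simp
      | add p q hp hq => simp only [map_add, hp, hq]
      | tmul c a =>
        rw [TensorProduct.comul_tmul, CommSemiring.comul_apply]
        suffices h : ∀ u : A ⊗[k] A, μ ((TensorProduct.AlgebraTensorModule.tensorTensorTensorComm k K k K K K A A)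
            (((1 : K) ⊗ₜ[K] c) ⊗ₜ[k] u)) = u ⊗ₜ c by
          exact (h _).trans (by simp [eΔ, σ])
        intro u
        induction u using TensorProduct.induction_on with
        | zero => simp
        | add p q hp hq => simp only [map_add, TensorProduct.tmul_add, TensorProduct.add_tmul, hp, hq]
        | tmul a₁ a₂ =>
          simp [μ, f₁, f₂, e₁, e₂, σ, j₁, j₂, Algebra.TensorProduct.tmul_mul_tmul]
    rw [← key, ha₀.comul_eq_tmul_self]
    rfl
  -- descend to a finite subextension
  obtain ⟨S, hS⟩ := TensorProduct.exists_finset (σ a₀)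
  let s : Finset K := S.image Prod.snd
  let L : IntermediateField k K := IntermediateField.adjoin k (s : Set K)
  have : FiniteDimensional k L :=
    IntermediateField.finiteDimensional_adjoin fun x _ => Algebra.IsIntegral.isIntegral x
  let a₁ : A ⊗[k] L := ∑ i ∈ S.attach, i.1.1 ⊗ₜ (⟨i.1.2,
    IntermediateField.subset_adjoin k _ (Finset.mem_image_of_mem Prod.snd i.2)⟩ : L)
  have ha₁ : Algebra.TensorProduct.map (AlgHom.id k A) L.val a₁ = σ a₀ := by
    rw [hS, ← Finset.sum_attach S, map_sum]
    rfl
  have hinj : ∀ (R : Type u) [CommRing R] [Algebra k R],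
      Function.Injective (Algebra.TensorProduct.map (AlgHom.id k R) L.val) := fun R _ _ =>
    Module.Flat.lTensor_preserves_injective_linearMap (M := R) L.val.toLinearMap Subtype.val_injective
  have hcomm : ∀ {R R' : Type u} [CommRing R] [Algebra k R] [CommRing R'] [Algebra k R'] (φ : R →ₐ[k] R')
      (x : R ⊗[k] L), Algebra.TensorProduct.map (AlgHom.id k R') L.val
        (Algebra.TensorProduct.map φ (AlgHom.id k L) x) =
      Algebra.TensorProduct.map φ (AlgHom.id k K) (Algebra.TensorProduct.map (AlgHom.id k R) L.val x) := by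
    intro R R' _ _ _ _ φ x
    induction x using TensorProduct.induction_on with
    | zero => simp
    | add p q hp hq => simp only [map_add, hp, hq]
    | tmul r c => simp
  have hrel₁ : Algebra.TensorProduct.map (Bialgebra.comulAlgHom k A) (AlgHom.id k L) a₁ =
      Algebra.TensorProduct.map j₁ (AlgHom.id k L) a₁ * Algebra.TensorProduct.map j₂ (AlgHom.id k L) a₁ := by
    apply hinj (A ⊗[k] A)
    rw [map_mul, hcomm, hcomm, hcomm, ha₁]
    exact hrel
  have himg : Algebra.TensorProduct.map (π : A →ₐ[k] B) (AlgHom.id k L) a₁ = g.val ⊗ₜ 1 := by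
    apply hinj B
    rw [hcomm, ha₁]
    have h2 : ∀ x : K ⊗[k] A, Algebra.TensorProduct.map (π : A →ₐ[k] B) (AlgHom.id k K) (σ x) =
        Algebra.TensorProduct.comm k K B (πK x) := by
      intro x
      induction x using TensorProduct.induction_on with
      | zero => simp
      | add p q hp hq => simp only [map_add, hp, hq]
      | tmul c a => simp [σ, πK]
    rw [h2, show πK a₀ = (baseChangeHom (k := k) (A := B) K g).val from hga]
    simp [baseChangeHom]
  -- take the norm
  let x : A := Algebra.norm A a₁
  have hx : comul (R := k) x = x ⊗ₜ x := by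
    show Bialgebra.comulAlgHom k A x = _
    rw [← norm_map, hrel₁, map_mul, norm_map, norm_map]
    simp [j₁, j₂, x]
  have hxB : π x = g.val ^ Module.finrank k L := by
    show (π : A →ₐ[k] B) x = _
    rw [← norm_map, himg, norm_one_tmul_base]
  have hε : counit (R := k) x = 1 := by
    have h1 : counit (R := k) (π x) = counit (R := k) x := CoalgHomClass.counit_comp_apply π x
    rw [← h1, hxB]
    simp [g.2.counit_eq_one]
  exact ⟨Module.finrank k L, Module.finrank_pos, ⟨x, hε, hx⟩, hxB⟩

end Groth.Agent.GrpLike79
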