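import Groth.Prelude.Def_CGrpSh2
import Groth.Agent.GrpSchLib.AffineHopf
import Groth.Agent.GrpSchLib.AffineHopfClosed
import Groth.Agent.GalDual.PtsLib
import Groth.Agent.GrpLike79.Descent
import Mathlib.RingTheory.HopfAlgebra.MonoidAlgebra

/-!
# Characters of affine commutative groups as group-like elements
-/

set_option autoImplicit false

universe u

open CategoryTheory CategoryTheory.Limits MonoidalCategory CartesianMonoidalCategory MonObj GrpObj AlgebraicGeometry Opposite
open TensorProduct WithConv
open Groth.Agent.GrpSchLib.AffineHopf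

namespace Groth.Agent.GrpLike79

variable {k : Type u} [Field k]

local notation "fppf" => Scheme.fppfPrecoverage

/-- The coordinate of the multiplicative group. -/
noncomputable def gen (k : Type u) [Field k] : MonoidAlgebra k (Multiplicative ℤ) :=
  MonoidAlgebra.single (Multiplicative.ofAdd 1) 1

theorem isGroupLike_gen : IsGroupLikeElem k (gen k) := ⟨by simp [gen], by simp [gen]⟩

theorem algHom_ext_gen {A : Type u} [CommRing A] [Algebra k A] {f g : (MonoidAlgebra k (Multiplicative ℤ)) →ₐ[k] A}
    (h : f (gen k) = g (gen k)) : f = g := by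
  refine MonoidAlgebra.algHom_ext (fun m => ?_) (by ext)
  have h2 : (f : (MonoidAlgebra k (Multiplicative ℤ)) →* A).comp (MonoidAlgebra.of k (Multiplicative ℤ)) =
      (g : (MonoidAlgebra k (Multiplicative ℤ)) →* A).comp (MonoidAlgebra.of k (Multiplicative ℤ)) := MonoidHom.ext_mint h
  exact DFunLike.congr_fun h2 m

/-- The bialgebra map of a group-like element. -/
noncomputable def bialgOfGroupLike {A : Type u} [CommRing A] [HopfAlgebra k A] (a : GroupLike k A) :
    (MonoidAlgebra k (Multiplicative ℤ)) →ₐc[k] A :=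
  BialgHom.ofAlgHom
    (MonoidAlgebra.lift k A (Multiplicative ℤ)
      (((Units.coeHom A).comp (GroupLike.toUnits k)).comp (zpowersHom _ a)))
    (algHom_ext_gen (by
      simp only [gen, AlgHom.comp_apply, MonoidAlgebra.lift_single, one_smul]
      simp))
    (algHom_ext_gen (by
      simp only [gen, AlgHom.comp_apply, MonoidAlgebra.lift_single, one_smul]
      simp))

theorem bialgOfGroupLike_gen {A : Type u} [CommRing A] [HopfAlgebra k A] (a : GroupLike k A) :
    bialgOfGroupLike a (gen k) = a.val := by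
  show MonoidAlgebra.lift k A (Multiplicative ℤ) _ (gen k) = a.val
  simp [gen]

/-- The identification of the multiplicative group with the spectrum of the group algebra. -/
theorem exists_gmMap : ∃ c : Red.Gm (Spec (CommRingCat.of k)) ⟶ sp k (MonoidAlgebra k (Multiplicative ℤ)), IsMonHom c ∧ IsIso c := by
  obtain ⟨e⟩ := nonempty_DS_iso k ℤ
  exact ⟨e.inv.hom.hom, inferInstance, inferInstanceAs (IsIso ((Grp.forget _).map e.inv))⟩

/-- The chosen identification. -/
noncomputable def gmMap (k : Type u) [Field k] :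
    Red.Gm (Spec (CommRingCat.of k)) ⟶ sp k (MonoidAlgebra k (Multiplicative ℤ)) :=
  (exists_gmMap (k := k)).choose

instance isMonHom_gmMap : IsMonHom (gmMap k) := (exists_gmMap (k := k)).choose_spec.1
instance isIso_gmMap : IsIso (gmMap k) := (exists_gmMap (k := k)).choose_spec.2

/-- The point of the multiplicative group attached to a character. -/
noncomputable def charPt {G : Over (Spec (CommRingCat.of k))} [GrpObj G] [IsCommMonObj G] (χ : CGrpSh.pts fppf G ⟶ CGrpSh2.Gm fppf (Spec (CommRingCat.of k))) :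
    G ⟶ Red.Gm (Spec (CommRingCat.of k)) :=
  Additive.toMul (ULift.down ((χ.hom.app (op G))
    (ULift.up (Additive.ofMul (𝟙 G)) : ToType ((CGrpSh.pts fppf G).obj.obj (op G)))))

theorem charPt_ptsMap {G : Over (Spec (CommRingCat.of k))} [GrpObj G] [IsCommMonObj G] (φ : G ⟶ Red.Gm (Spec (CommRingCat.of k))) [IsMonHom φ] :
    charPt (CGrpSh.ptsMap fppf φ) = φ :=
  Category.id_comp φ

theorem charPt_add {G : Over (Spec (CommRingCat.of k))} [GrpObj G] [IsCommMonObj G]
    (χ χ' : CGrpSh.pts fppf G ⟶ CGrpSh2.Gm fppf (Spec (CommRingCat.of k))) :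
    charPt (χ + χ') = charPt χ * charPt χ' := rfl

theorem charPt_restrict {G H : Over (Spec (CommRingCat.of k))} [GrpObj G] [IsCommMonObj G] [GrpObj H] [IsCommMonObj H]
    (i : H ⟶ G) [IsMonHom i] (χ : CGrpSh.pts fppf G ⟶ CGrpSh2.Gm fppf (Spec (CommRingCat.of k))) :
    charPt (CGrpSh.ptsMap fppf i ≫ χ) = i ≫ charPt χ := by
  obtain ⟨ψ, _, rfl⟩ := GalDual.exists_ptsMap_eq χ
  rw [charPt_ptsMap]
  show (𝟙 H ≫ i) ≫ ψ = i ≫ ψ
  rw [Category.id_comp]

variable {G : Over (Spec (CommRingCat.of k))} [GrpObj G] [IsCommMonObj G] {A : Type u} [CommRing A] [HopfAlgebra k A]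
  (e : sp k A ⟶ G) [IsMonHom e]

/-- The value at the coordinate of a morphism to the multiplicative group. -/
noncomputable def genVal (x : sp k A ⟶ sp k (MonoidAlgebra k (Multiplicative ℤ))) : A := (Spec.mapMulEquiv.symm x).ofConv (gen k)

theorem genVal_spMap (f : (MonoidAlgebra k (Multiplicative ℤ)) →ₐ[k] A) : genVal (spMap f) = f (gen k) := by
  rw [genVal, spMap_eq_mapMulEquiv, MulEquiv.symm_apply_apply]

theorem genVal_mul (x y : sp k A ⟶ sp k (MonoidAlgebra k (Multiplicative ℤ))) : genVal (x * y) = genVal x * genVal y := by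
  rw [genVal, map_mul, AlgHom.convMul_apply, isGroupLike_gen.comul_eq_tmul_self]
  simp [genVal]

theorem genVal_injective : Function.Injective (genVal (k := k) (A := A)) := fun x y h =>
  Spec.mapMulEquiv.symm.injective (WithConv.ofConv_injective (algHom_ext_gen h))

theorem isGroupLike_charVal (χ : CGrpSh.pts fppf G ⟶ CGrpSh2.Gm fppf (Spec (CommRingCat.of k))) :
    IsGroupLikeElem k (genVal (e ≫ charPt χ ≫ gmMap k)) := by
  obtain ⟨φ, _, rfl⟩ := GalDual.exists_ptsMap_eq χ
  rw [charPt_ptsMap]
  obtain ⟨f, hf⟩ := exists_bialgHom (e ≫ φ ≫ gmMap k)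
  rw [hf, genVal_spMap]
  exact isGroupLike_gen.map f

/-- Characters as group-like elements. -/
noncomputable def charHom :
    (CGrpSh.pts fppf G ⟶ CGrpSh2.Gm fppf (Spec (CommRingCat.of k))) →+ Additive (GroupLike k A) :=
  AddMonoidHom.mk' (fun χ => Additive.ofMul ⟨_, isGroupLike_charVal e χ⟩) fun χ χ' => by
    refine congrArg Additive.ofMul (GroupLike.val_injective ?_)
    show genVal _ = genVal _ * genVal _
    rw [← genVal_mul, charPt_add, MonObj.mul_comp, MonObj.comp_mul]

theorem charHom_bijective [IsIso e] : Function.Bijective (charHom e) := by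
  constructor
  · intro χ χ' h
    have h1 := genVal_injective (congrArg (fun z => (Additive.toMul z).val) h)
    rw [cancel_epi, cancel_mono] at h1
    obtain ⟨φ, _, rfl⟩ := GalDual.exists_ptsMap_eq χ
    obtain ⟨φ', _, rfl⟩ := GalDual.exists_ptsMap_eq χ'
    rw [charPt_ptsMap, charPt_ptsMap] at h1
    subst h1
    rfl
  · intro a
    let φ : G ⟶ Red.Gm (Spec (CommRingCat.of k)) :=
      inv e ≫ spMap ((bialgOfGroupLike a.toMul : (MonoidAlgebra k (Multiplicative ℤ)) →ₐc[k] A) : (MonoidAlgebra k (Multiplicative ℤ)) →ₐ[k] A) ≫ inv (gmMap k)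
    have : IsMonHom φ := by
      show IsMonHom (inv e ≫ _ ≫ inv (gmMap k))
      have h₁ : IsMonHom (inv e) := inferInstanceAs (IsMonHom (asIso e).inv)
      have h₂ : IsMonHom (inv (gmMap k)) := inferInstanceAs (IsMonHom (asIso (gmMap k)).inv)
      infer_instance
    refine ⟨CGrpSh.ptsMap fppf φ, congrArg Additive.ofMul (GroupLike.val_injective ?_)⟩
    show genVal (e ≫ charPt (CGrpSh.ptsMap fppf φ) ≫ gmMap k) = _
    rw [charPt_ptsMap]
    simp only [φ, Category.assoc, IsIso.hom_inv_id_assoc, IsIso.inv_hom_id, Category.comp_id]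
    rw [genVal_spMap]
    exact bialgOfGroupLike_gen _

/-- Restriction of characters is the map of group-like elements. -/
theorem charHom_restrict [IsIso e] {H : Over (Spec (CommRingCat.of k))} [GrpObj H] [IsCommMonObj H] {B : Type u} [CommRing B]
    [HopfAlgebra k B] (e' : sp k B ⟶ H) [IsMonHom e'] (i : H ⟶ G) [IsMonHom i] (π : A →ₐc[k] B)
    (hπ : e' ≫ i ≫ inv e = spMap (π : A →ₐ[k] B)) (χ : CGrpSh.pts fppf G ⟶ CGrpSh2.Gm fppf (Spec (CommRingCat.of k))) :
    (Additive.toMul (charHom e' (CGrpSh.ptsMap fppf i ≫ χ))).val = π (Additive.toMul (charHom e χ)).val := by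
  show genVal (e' ≫ charPt _ ≫ gmMap k) = π (genVal (e ≫ charPt χ ≫ gmMap k))
  obtain ⟨f, hf⟩ := exists_eq_spMap (e ≫ charPt χ ≫ gmMap k)
  rw [charPt_restrict, hf, genVal_spMap,
    show e' ≫ (i ≫ charPt χ) ≫ gmMap k = (e' ≫ i ≫ inv e) ≫ e ≫ charPt χ ≫ gmMap k by
      simp [Category.assoc],
    hπ, hf, spMap_comp, genVal_spMap]
  rfl

omit [IsCommMonObj G] in
/-- An affine group has a Hopf algebra of finite type when it is of finite type. -/
theorem exists_hopf_finiteType (X : Over (Spec (CommRingCat.of k))) [GrpObj X] [IsCommMonObj X] [IsAffine X.left]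
    [LocallyOfFiniteType X.hom] :
    ∃ (A : Type u) (_ : CommRing A) (_ : HopfAlgebra k A) (e : sp k A ⟶ X), IsMonHom e ∧ IsIso e ∧
      Coalgebra.IsCocomm k A ∧ Algebra.FiniteType k A := by
  obtain ⟨A, _, _, ⟨eX⟩⟩ := exists_hopf X
  haveI : IsIso eX.hom.hom.hom := inferInstanceAs (IsIso ((Grp.forget _).map eX.hom))
  refine ⟨A, inferInstance, inferInstance, eX.hom.hom.hom, inferInstance, inferInstance, ?_, ?_⟩
  · let l : A →ₐ[k] A ⊗[k] A := Algebra.TensorProduct.includeLeft
    let r : A →ₐ[k] A ⊗[k] A := Algebra.TensorProduct.includeRight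
    have h : (toConv l * toConv r).ofConv = (toConv r * toConv l).ofConv := by
      apply spMap_injective
      rw [← spMap_mul, ← spMap_mul, ← cancel_mono eX.hom.hom.hom, MonObj.mul_comp, MonObj.mul_comp, mul_comm]
    constructor
    refine LinearMap.ext fun a => ?_
    have h' := AlgHom.congr_fun h a
    simp only [AlgHom.convMul_apply] at h'
    have key : ∀ z : A ⊗[k] A, Algebra.TensorProduct.lift l r (fun _ _ => Commute.all _ _) z = z := fun z => by
      induction z using TensorProduct.induction_on with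
      | zero => simp
      | tmul p q => simp [l, r]
      | add p q hp hq => simp only [map_add, hp, hq]
    have key' : ∀ z : A ⊗[k] A,
        Algebra.TensorProduct.lift r l (fun _ _ => Commute.all _ _) z = TensorProduct.comm k A A z := fun z => by
      induction z using TensorProduct.induction_on with
      | zero => simp
      | tmul p q => simp [l, r]
      | add p q hp hq => simp only [map_add, hp, hq]
    show TensorProduct.comm k A A (Coalgebra.comul (R := k) a) = Coalgebra.comul (R := k) a
    refine (key' _).symm.trans (Eq.trans ?_ (key _))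
    convert h'.symm using 1
  · have key : ∀ (Y : Over (Spec (CommRingCat.of k))) (f : Y ⟶ X) [IsIso f], LocallyOfFiniteType Y.hom := by
      intro Y f _
      have : IsIso f.left := inferInstanceAs (IsIso ((Over.forget _).map f))
      rw [← Over.w f]
      exact (MorphismProperty.cancel_left_of_respectsIso @LocallyOfFiniteType _ _).2 ‹_›
    have h2 : LocallyOfFiniteType (Spec.map (CommRingCat.ofHom (algebraMap k A))) :=
      key (sp k A) eX.hom.hom.hom
    exact RingHom.finiteType_algebraMap.mp ((HasRingHomProperty.Spec_iff (P := @LocallyOfFiniteType)).1 h2)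

end Groth.Agent.GrpLike79
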