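import Groth.Agent.GrpLike79.Lift
import Mathlib.RingTheory.Bialgebra.TensorProduct
import Mathlib.RingTheory.HopfAlgebra.TensorProduct
import Mathlib.RingTheory.FiniteType
import Mathlib.RingTheory.Coalgebra.Convolution
import Mathlib.Algebra.Algebra.Subalgebra.Lattice
import Mathlib.GroupTheory.Finiteness

/-!
# The group-like elements of a finitely generated Hopf algebra form a finitely generated group
-/

set_option autoImplicit false

universe u v

open TensorProduct Coalgebra

namespace Groth.Agent.GrpLike79

open Groth.Agent.ComodLib

variable {k : Type u} [Field k] {A : Type v} [CommRing A] [HopfAlgebra k A]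

theorem finite_groupLike_subspace (C : Submodule k A) [Module.Finite k C] :
    {a : A | IsGroupLikeElem k a ∧ a ∈ C}.Finite := by
  let T := {a : A | IsGroupLikeElem k a ∧ a ∈ C}
  have h1 : LinearIndepOn k id T := linearIndepOn_isGroupLikeElem.mono fun a ha => ha.1
  let i : T → C := fun a => ⟨a.1, a.2.2⟩
  have h2 : LinearIndependent k i := LinearIndependent.of_comp C.subtype h1
  exact Set.finite_coe_iff.1 h2.finite

variable [Coalgebra.IsCocomm k A]

theorem isSubcoalg_map {B : Type v} [CommRing B] [HopfAlgebra k B] (f : A →ₗc[k] B) {C : Submodule k A}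
    (hC : IsSubcoalg k A C) : IsSubcoalg k B (C.map f.toLinearMap) := by
  rintro _ ⟨c, hc, rfl⟩
  obtain ⟨z, hz⟩ := hC c hc
  rw [show CoalgebraStruct.comul (R := k) (f.toLinearMap c) = TensorProduct.map f.toLinearMap f.toLinearMap
    (comul (R := k) c) from (CoalgHomClass.map_comp_comul_apply f c).symm, ← hz]
  clear hz
  induction z using TensorProduct.induction_on with
  | zero => simp
  | tmul p q =>
    exact ⟨(⟨f.toLinearMap p, Submodule.mem_map_of_mem p.2⟩ : C.map f.toLinearMap) ⊗ₜ
      (⟨f.toLinearMap q, Submodule.mem_map_of_mem q.2⟩ : C.map f.toLinearMap), by simp; rfl⟩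
  | add p q hp hq => simp only [map_add]; exact add_mem hp hq

theorem isSubcoalg_tensor {C D : Submodule k A} (hC : IsSubcoalg k A C) (hD : IsSubcoalg k A D) :
    IsSubcoalg k (A ⊗[k] A) (LinearMap.range (TensorProduct.map C.subtype D.subtype)) := by
  intro x hx
  obtain ⟨w, rfl⟩ := hx
  set E := LinearMap.range (TensorProduct.map C.subtype D.subtype)
  induction w using TensorProduct.induction_on with
  | zero => simp
  | add p q hp hq => simp only [map_add]; exact add_mem hp hq
  | tmul c d =>
    obtain ⟨u, hu⟩ := hC c c.2
    obtain ⟨v, hv⟩ := hD d d.2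
    rw [TensorProduct.map_tmul, TensorProduct.comul_tmul, show C.subtype c = (c : A) from rfl,
      show D.subtype d = (d : A) from rfl, ← hu, ← hv]
    clear hu hv
    induction u using TensorProduct.induction_on with
    | zero => simp
    | add p q hp hq => simp only [map_add, TensorProduct.add_tmul]; exact add_mem hp hq
    | tmul c₁ c₂ =>
      induction v using TensorProduct.induction_on with
      | zero => simp
      | add p q hp hq => simp only [map_add, TensorProduct.tmul_add]; exact add_mem hp hq
      | tmul d₁ d₂ =>
        refine ⟨(⟨_, c₁ ⊗ₜ d₁, rfl⟩ : E) ⊗ₜ (⟨_, c₂ ⊗ₜ d₂, rfl⟩ : E), ?_⟩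
        simp [TensorProduct.AlgebraTensorModule.tensorTensorTensorComm_tmul]

theorem exists_eq_tmul_of_isGroupLike {z : A ⊗[k] A} (hz : IsGroupLikeElem k z)
    {C D : Submodule k A} (hzCD : z ∈ LinearMap.range (TensorProduct.map C.subtype D.subtype)) :
    ∃ a b, a ∈ C ∧ b ∈ D ∧ IsGroupLikeElem k a ∧ IsGroupLikeElem k b ∧ z = a ⊗ₜ b := by
  let p₁ : A ⊗[k] A →ₗ[k] A := (TensorProduct.rid k A).toLinearMap ∘ₗ (counit (R := k)).lTensor A
  let p₂ : A ⊗[k] A →ₗ[k] A := (TensorProduct.lid k A).toLinearMap ∘ₗ (counit (R := k)).rTensor A
  have h1 : ∀ x, TensorProduct.map p₁ p₂ (comul (R := k) x) = x := by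
    intro x
    induction x using TensorProduct.induction_on with
    | zero => simp
    | add p q hp hq => simp only [map_add, hp, hq]
    | tmul c d =>
      have hc := lTensor_counit_comul (R := k) c
      have hd := rTensor_counit_comul (R := k) d
      have key : ∀ (u v : A ⊗[k] A), TensorProduct.map p₁ p₂
          (TensorProduct.AlgebraTensorModule.tensorTensorTensorComm k k k k A A A A (u ⊗ₜ v)) =
          TensorProduct.rid k A ((counit (R := k)).lTensor A u) ⊗ₜ
            TensorProduct.lid k A ((counit (R := k)).rTensor A v) := by
        intro u v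
        induction u using TensorProduct.induction_on with
        | zero => simp
        | add p q hp hq => simp only [map_add, TensorProduct.add_tmul, hp, hq]
        | tmul c₁ c₂ =>
          induction v using TensorProduct.induction_on with
          | zero => simp
          | add p q hp hq => simp only [map_add, TensorProduct.tmul_add, hp, hq]
          | tmul d₁ d₂ =>
            simp [p₁, p₂, TensorProduct.smul_tmul', TensorProduct.tmul_smul, smul_smul, mul_comm]
      rw [TensorProduct.comul_tmul, key, hc, hd]
      simp
  have hp₁ : ∀ x, comul (R := k) (p₁ x) = TensorProduct.map p₁ p₁ (comul (R := k) x) := by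
    intro x
    induction x using TensorProduct.induction_on with
    | zero => simp
    | add p q hp hq => simp only [map_add, hp, hq]
    | tmul c d =>
      have key : ∀ (u v : A ⊗[k] A), TensorProduct.map p₁ p₁
          (TensorProduct.AlgebraTensorModule.tensorTensorTensorComm k k k k A A A A (u ⊗ₜ v)) =
          (TensorProduct.lid k k (TensorProduct.map (counit (R := k)) (counit (R := k)) v)) • u := by
        intro u v
        induction u using TensorProduct.induction_on with
        | zero => simp
        | add p q hp hq => simp only [map_add, TensorProduct.add_tmul, hp, hq, smul_add]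
        | tmul c₁ c₂ =>
          induction v using TensorProduct.induction_on with
          | zero => simp
          | add p q hp hq => simp only [map_add, TensorProduct.tmul_add, hp, hq, add_smul]
          | tmul d₁ d₂ =>
            simp [p₁, TensorProduct.smul_tmul', TensorProduct.tmul_smul, smul_smul, mul_comm]
      have hd : TensorProduct.lid k k (TensorProduct.map (counit (R := k)) (counit (R := k))
          (comul (R := k) d)) = counit (R := k) d := by
        have := congrArg (fun t => TensorProduct.lid k k ((counit (R := k)).lTensor k t)) (rTensor_counit_comul (R := k) d)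
        simp only [LinearMap.lTensor_tmul, TensorProduct.lid_tmul, one_smul] at this
        rw [← LinearMap.comp_apply, LinearMap.lTensor_comp_rTensor] at this
        exact this
      rw [TensorProduct.comul_tmul, key, hd]
      simp [p₁]
  have hp₂ : ∀ x, comul (R := k) (p₂ x) = TensorProduct.map p₂ p₂ (comul (R := k) x) := by
    intro x
    induction x using TensorProduct.induction_on with
    | zero => simp
    | add p q hp hq => simp only [map_add, hp, hq]
    | tmul c d =>
      have key : ∀ (u v : A ⊗[k] A), TensorProduct.map p₂ p₂
          (TensorProduct.AlgebraTensorModule.tensorTensorTensorComm k k k k A A A A (u ⊗ₜ v)) =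
          (TensorProduct.lid k k (TensorProduct.map (counit (R := k)) (counit (R := k)) u)) • v := by
        intro u v
        induction u using TensorProduct.induction_on with
        | zero => simp
        | add p q hp hq => simp only [map_add, TensorProduct.add_tmul, hp, hq, add_smul]
        | tmul c₁ c₂ =>
          induction v using TensorProduct.induction_on with
          | zero => simp
          | add p q hp hq => simp only [map_add, TensorProduct.tmul_add, hp, hq, smul_add]
          | tmul d₁ d₂ =>
            simp [p₂, TensorProduct.smul_tmul', TensorProduct.tmul_smul, smul_smul, mul_comm]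
      have hd : TensorProduct.lid k k (TensorProduct.map (counit (R := k)) (counit (R := k))
          (comul (R := k) c)) = counit (R := k) c := by
        have := congrArg (fun t => TensorProduct.lid k k ((counit (R := k)).lTensor k t)) (rTensor_counit_comul (R := k) c)
        simp only [LinearMap.lTensor_tmul, TensorProduct.lid_tmul, one_smul] at this
        rw [← LinearMap.comp_apply, LinearMap.lTensor_comp_rTensor] at this
        exact this
      rw [TensorProduct.comul_tmul, key, hd]
      simp [p₂]
  have hc1 : ∀ x, counit (R := k) (p₁ x) = counit (R := k) x := by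
    intro x
    induction x using TensorProduct.induction_on with
    | zero => simp
    | add p q hp hq => simp only [map_add, hp, hq]
    | tmul c d => simp [p₁, mul_comm]
  have hc2 : ∀ x, counit (R := k) (p₂ x) = counit (R := k) x := by
    intro x
    induction x using TensorProduct.induction_on with
    | zero => simp
    | add p q hp hq => simp only [map_add, hp, hq]
    | tmul c d => simp [p₂, mul_comm]
  refine ⟨p₁ z, p₂ z, ?_, ?_, ⟨by rw [hc1, hz.counit_eq_one], ?_⟩, ⟨by rw [hc2, hz.counit_eq_one], ?_⟩, ?_⟩
  · obtain ⟨w, hw⟩ := hzCD
    rw [← hw]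
    clear hw
    induction w using TensorProduct.induction_on with
    | zero => simp
    | add p q hp hq => simp only [map_add]; exact add_mem hp hq
    | tmul c d => simp [p₁, Submodule.smul_mem]
  · obtain ⟨w, hw⟩ := hzCD
    rw [← hw]
    clear hw
    induction w using TensorProduct.induction_on with
    | zero => simp
    | add p q hp hq => simp only [map_add]; exact add_mem hp hq
    | tmul c d => simp [p₂, Submodule.smul_mem]
  · rw [hp₁, hz.comul_eq_tmul_self, TensorProduct.map_tmul]
  · rw [hp₂, hz.comul_eq_tmul_self, TensorProduct.map_tmul]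
  · have := h1 z
    rw [hz.comul_eq_tmul_self, TensorProduct.map_tmul] at this
    exact this.symm

/-- Over an algebraically closed field group-like elements are generated by those of a generating
subcoalgebra. -/
theorem groupLike_fg [IsAlgClosed k] [Algebra.FiniteType k A] : Group.FG (GroupLike k A) := by
  classical
  obtain ⟨gens, hgens⟩ := (Algebra.FiniteType.out : (⊤ : Subalgebra k A).FG)
  obtain ⟨U, hUf, hgU, hU⟩ := exists_finite_subcomod_le (k := k) (C := A) (V := A)
    (s := insert 1 (gens : Set A)) ((gens.finite_toSet).insert 1)
  haveI := hUf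
  let : HopfRep.Comod k A U := ComodSub.Comod.restr (HopfRep.Comod.regular k A) U hU
  haveI : Module.Finite k (coeffSpace k A U) := finite_coeffSpace
  let C : Submodule k A := coeffSpace k A U
  have hC : IsSubcoalg k A C := isSubcoalg_coeffSpace
  have hUC : ∀ x ∈ U, x ∈ C := fun x hx =>
    range_le_coeffSpace (ComodSub.isComodHom_subtype _ U hU) ⟨⟨x, hx⟩, rfl⟩
  have h1C : (1 : A) ∈ C := hUC 1 (hgU (Set.mem_insert _ _))
  let F := {g : GroupLike k A | (g : A) ∈ C}
  have hF : F.Finite := by
    refine ((finite_groupLike_subspace C).preimage GroupLike.val_injective.injOn).subset fun g hg => ?_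
    exact ⟨g.2, hg⟩
  refine Group.fg_iff.2 ⟨F, eq_top_iff.2 fun g _ => ?_, hF⟩
  have hpow : ∀ n : ℕ, Module.Finite k (C ^ n : Submodule k A) ∧ IsSubcoalg k A (C ^ n) ∧
      ∀ x : GroupLike k A, (x : A) ∈ C ^ n → x ∈ Subgroup.closure F := by
    intro n
    induction n with
    | zero =>
      rw [pow_zero, Submodule.one_eq_span]
      refine ⟨Module.Finite.span_of_finite k (Set.finite_singleton 1), fun b hb => ?_, fun x hx => ?_⟩
      · obtain ⟨r, rfl⟩ := Submodule.mem_span_singleton.1 hb
        refine ⟨(⟨r • 1, Submodule.smul_mem _ r (Submodule.mem_span_singleton_self 1)⟩ :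
          Submodule.span k {(1 : A)}) ⊗ₜ ⟨1, Submodule.mem_span_singleton_self 1⟩, ?_⟩
        rw [map_smul, Bialgebra.comul_one, Algebra.TensorProduct.one_def]
        simp [TensorProduct.smul_tmul']
      · obtain ⟨r, hr⟩ := Submodule.mem_span_singleton.1 hx
        have h : r = 1 := by
          have := congrArg (counit (R := k)) hr
          simpa [x.2.counit_eq_one] using this
        have hx1 : x = 1 := GroupLike.val_injective (by rw [← hr, h, one_smul]; rfl)
        rw [hx1]; exact one_mem _
    | succ n ih =>
      obtain ⟨hfin, hsub, hmem⟩ := ih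
      have heq : C ^ (n + 1) = (LinearMap.range (TensorProduct.map (C ^ n).subtype C.subtype)).map
          (Bialgebra.mulCoalgHom k A).toLinearMap := by
        rw [pow_succ, ← LinearMap.range_comp]
        refine le_antisymm (Submodule.mul_le.2 fun a ha b hb => ⟨⟨a, ha⟩ ⊗ₜ ⟨b, hb⟩, rfl⟩) ?_
        rintro _ ⟨w, rfl⟩
        induction w using TensorProduct.induction_on with
        | zero => simp
        | add p q hp hq => simp only [map_add]; exact add_mem hp hq
        | tmul a b => exact Submodule.mul_mem_mul a.2 b.2
      rw [heq]
      refine ⟨inferInstance, isSubcoalg_map _ (isSubcoalg_tensor hsub hC), fun x hx => ?_⟩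
      obtain ⟨z, hzmem, hz, hzx⟩ := exists_lift (Bialgebra.mulCoalgHom k A) _
        (isSubcoalg_tensor hsub hC) x.2 hx
      obtain ⟨a, b, ha, hb, hga, hgb, rfl⟩ := exists_eq_tmul_of_isGroupLike hz hzmem
      have : x = ⟨a, hga⟩ * ⟨b, hgb⟩ := GroupLike.val_injective (by rw [GroupLike.val_mul, ← hzx]; rfl)
      rw [this]
      exact mul_mem (hmem _ ha) (Subgroup.subset_closure hb)
  have hmono : Monotone fun n : ℕ => C ^ n := monotone_nat_of_le_succ fun n x hx => by
    show x ∈ C ^ (n + 1)
    rw [pow_succ, ← mul_one x]
    exact Submodule.mul_mem_mul hx h1C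
  obtain ⟨n, hn⟩ : ∃ n, (g : A) ∈ C ^ n := by
    have : ∀ x ∈ Algebra.adjoin k (gens : Set A), ∃ n, x ∈ C ^ n := by
      intro x hx
      induction hx using Algebra.adjoin_induction with
      | mem x hx => exact ⟨1, by rw [pow_one]; exact hUC x (hgU (Set.mem_insert_of_mem _ hx))⟩
      | algebraMap r =>
        refine ⟨0, ?_⟩
        rw [pow_zero, Algebra.algebraMap_eq_smul_one]
        exact Submodule.smul_mem _ r (Submodule.one_eq_span (R := k) (A := A) ▸ Submodule.mem_span_singleton_self 1)
      | add x y _ _ hx hy =>
        obtain ⟨m, hm⟩ := hx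
        obtain ⟨m', hm'⟩ := hy
        exact ⟨max m m', add_mem (hmono (le_max_left m m') hm) (hmono (le_max_right m m') hm')⟩
      | mul x y _ _ hx hy =>
        obtain ⟨m, hm⟩ := hx
        obtain ⟨m', hm'⟩ := hy
        exact ⟨m + m', by rw [pow_add]; exact Submodule.mul_mem_mul hm hm'⟩
    exact this g (hgens ▸ Algebra.mem_top)
  exact (hpow n).2.2 g hn

end Groth.Agent.GrpLike79
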