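import Groth.Agent.ComodLib.PrimDiag
import Mathlib.RingTheory.Bialgebra.GroupLike
import Mathlib.RingTheory.HopfAlgebra.GroupLike
import Mathlib.RingTheory.Ideal.GoingUp
import Mathlib.RingTheory.IntegralClosure.IsIntegralClosure.Basic
import Mathlib.RingTheory.Coalgebra.TensorProduct
import Mathlib.FieldTheory.IsAlgClosed.Basic

/-!
# Lifting group-like elements over an algebraically closed field
-/

set_option autoImplicit false

universe u v w

open TensorProduct WithConv Coalgebra

namespace Groth.Agent.GrpLike79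

open Groth.Agent.ComodLib

variable {k : Type u} [Field k]

/-- A functional on finite type spaces: algebra maps of a quotient of a commutative algebra lift. -/
theorem exists_character_ext [IsAlgClosed k] {D : Type v} [CommRing D] [Algebra k D] [Module.Finite k D]
    (R : Subalgebra k D) (χ : R →ₐ[k] k) : ∃ ψ : D →ₐ[k] k, ∀ r : R, ψ r = χ r := by
  have hχ : Function.Surjective χ := fun c => ⟨algebraMap k R c, by simp⟩
  have hint : Algebra.IsIntegral R D :=
    ⟨fun x => (Algebra.IsIntegral.isIntegral (R := k) x).tower_top⟩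
  let P : Ideal R := RingHom.ker χ
  have : P.IsMaximal := RingHom.ker_isMaximal_of_surjective χ hχ
  obtain ⟨M, hM, hMP⟩ := Ideal.exists_ideal_over_maximal_of_isIntegral (S := D) P (by
    rw [(RingHom.injective_iff_ker_eq_bot _).1 (show Function.Injective (algebraMap R D) from Subtype.val_injective)]
    exact bot_le)
  let := Ideal.Quotient.field M
  have hbij : Function.Bijective (algebraMap k (D ⧸ M)) :=
    IsAlgClosed.algebraMap_bijective_of_isIntegral
  let e : k ≃ₐ[k] D ⧸ M := AlgEquiv.ofBijective (Algebra.ofId k (D ⧸ M)) hbij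
  refine ⟨(e.symm : (D ⧸ M) →ₐ[k] k).comp (Ideal.Quotient.mkₐ k M), fun r => ?_⟩
  apply e.injective
  show e (e.symm _) = e (χ r)
  rw [AlgEquiv.apply_symm_apply]
  show Ideal.Quotient.mk M (r : D) = algebraMap k (D ⧸ M) (χ r)
  rw [← Ideal.Quotient.mk_algebraMap, Ideal.Quotient.eq]
  have h1 : r - algebraMap k R (χ r) ∈ P := by simp [P, RingHom.mem_ker]
  rw [← hMP, Ideal.mem_comap] at h1
  simpa using h1

variable {A : Type v} [CommRing A] [HopfAlgebra k A] [Coalgebra.IsCocomm k A]
  {B : Type w} [CommRing B] [HopfAlgebra k B] [Coalgebra.IsCocomm k B]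

/-- A morphism of coalgebras induces an algebra map of convolution algebras. -/
noncomputable def convPullback (f : A →ₗc[k] B) : WithConv (B →ₗ[k] k) →ₐ[k] WithConv (A →ₗ[k] k) :=
  AlgHom.ofLinearMap
    { toFun := fun φ => toConv (φ.ofConv ∘ₗ f.toLinearMap)
      map_add' := fun _ _ => rfl
      map_smul' := fun _ _ => rfl }
    (WithConv.ofConv_injective (LinearMap.ext fun a => by
      show (1 : WithConv (B →ₗ[k] k)).ofConv (f a) = (1 : WithConv (A →ₗ[k] k)).ofConv a
      simp))
    (fun φ ψ => WithConv.ofConv_injective (LinearMap.ext fun a => by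
      show (φ * ψ).ofConv (f a) =
        (toConv (φ.ofConv ∘ₗ f.toLinearMap) * toConv (ψ.ofConv ∘ₗ f.toLinearMap)).ofConv a
      rw [LinearMap.convMul_apply, LinearMap.convMul_apply, ← CoalgHomClass.map_comp_comul_apply f a,
        TensorProduct.map_comp]
      rfl))

theorem exists_lift_aux [IsAlgClosed k] (f : A →ₗc[k] B) (C : Submodule k A) [Module.Finite k C]
    {Q : Type (max u v)} [CommRing Q] [Algebra k Q] (π : WithConv (A →ₗ[k] k) →ₐ[k] Q) (hπ : Function.Surjective π)
    (hker : ∀ φ, π φ = 0 ↔ ∀ c ∈ C, φ.ofConv c = 0)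
    {g : B} (hg : IsGroupLikeElem k g) (hgC : g ∈ C.map f.toLinearMap) :
    ∃ a ∈ C, IsGroupLikeElem k a ∧ f a = g := by
  obtain ⟨P, hP⟩ := C.subtype.exists_leftInverse_of_injective C.ker_subtype
  have hP' : ∀ c : C, P c = c := fun c => LinearMap.congr_fun hP c
  let q : Module.Dual k C →ₗ[k] Q :=
    { toFun := fun h => π (toConv (h ∘ₗ P))
      map_add' := fun h h' => by rw [← map_add]; rfl
      map_smul' := fun r h => by rw [RingHom.id_apply, ← map_smul]; rfl }
  have hq : ∀ φ : WithConv (A →ₗ[k] k), q (φ.ofConv ∘ₗ C.subtype) = π φ := fun φ => by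
    rw [← sub_eq_zero]
    show π _ - π φ = 0
    rw [← map_sub, hker]
    intro c hc
    show φ.ofConv (C.subtype (P c)) - φ.ofConv c = 0
    rw [show P c = ⟨c, hc⟩ from hP' ⟨c, hc⟩]
    exact sub_self _
  have : Module.Finite k Q := Module.Finite.of_surjective q fun z => by
    obtain ⟨φ, rfl⟩ := hπ z
    exact ⟨_, hq φ⟩
  let τ : WithConv (B →ₗ[k] k) →ₐ[k] Q := π.comp (convPullback f)
  let ev : WithConv (B →ₗ[k] k) →ₐ[k] k :=
    AlgHom.ofLinearMap
      { toFun := fun φ => φ.ofConv g, map_add' := fun _ _ => rfl, map_smul' := fun _ _ => rfl }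
      (by show (1 : WithConv (B →ₗ[k] k)).ofConv g = 1; simp [hg.counit_eq_one])
      (fun φ ψ => by
        show (φ * ψ).ofConv g = φ.ofConv g * ψ.ofConv g
        rw [LinearMap.convMul_apply, hg.comul_eq_tmul_self]
        rfl)
  have hle : RingHom.ker τ.rangeRestrict ≤ RingHom.ker ev := by
    intro φ hφ
    have h1 : π (convPullback f φ) = 0 := congrArg Subtype.val hφ
    obtain ⟨c, hc, hcg⟩ := hgC
    have h2 := (hker _).1 h1 c hc
    show φ.ofConv g = 0
    rw [← hcg]
    exact h2
  let χ : τ.range →ₐ[k] k := AlgHom.liftOfSurjective τ.rangeRestrict τ.rangeRestrict_surjective ev hle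
  have hχ : ∀ φ, χ (τ.rangeRestrict φ) = φ.ofConv g := fun φ =>
    AlgHom.liftOfSurjective_apply τ.rangeRestrict τ.rangeRestrict_surjective ev hle φ
  obtain ⟨ψ, hψ⟩ := exists_character_ext τ.range χ
  let a : A := ((Module.evalEquiv k C).symm (ψ.toLinearMap ∘ₗ q) : C)
  have key : ∀ φ : WithConv (A →ₗ[k] k), φ.ofConv a = ψ (π φ) := fun φ => by
    show (φ.ofConv ∘ₗ C.subtype) ((Module.evalEquiv k C).symm (ψ.toLinearMap ∘ₗ q)) = _
    rw [Module.apply_evalEquiv_symm_apply, LinearMap.comp_apply, hq]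
    rfl
  refine ⟨a, Submodule.coe_mem _, ⟨?_, ?_⟩, ?_⟩
  · have := key 1
    rw [map_one, map_one] at this
    simpa using this
  · refine PrimDiag.dual_tensor_ext fun φ θ => ?_
    show LinearMap.mul' k k (TensorProduct.map φ θ (comul a)) = LinearMap.mul' k k (TensorProduct.map φ θ (a ⊗ₜ a))
    refine (LinearMap.convMul_apply (toConv φ) (toConv θ) a).symm.trans ?_
    rw [key, map_mul, map_mul, ← key, ← key]
    rfl
  · rw [← sub_eq_zero, ← Module.forall_dual_apply_eq_zero_iff k]
    intro φ
    rw [map_sub, sub_eq_zero]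
    refine (key (convPullback f (toConv φ))).trans ?_
    refine (hψ (τ.rangeRestrict (toConv φ))).trans ?_
    exact hχ _

/-- Group-like elements in the image of a finite subcoalgebra lift to it. -/
theorem exists_lift [IsAlgClosed k] (f : A →ₗc[k] B) (C : Submodule k A) [Module.Finite k C]
    (hC : IsSubcoalg k A C) {g : B} (hg : IsGroupLikeElem k g) (hgC : g ∈ C.map f.toLinearMap) :
    ∃ a ∈ C, IsGroupLikeElem k a ∧ f a = g := by
  let I : Ideal (WithConv (A →ₗ[k] k)) := PrimDiag.annIdeal C hC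
  exact exists_lift_aux (Q := WithConv (A →ₗ[k] k) ⧸ I) f C (Ideal.Quotient.mkₐ k I) Ideal.Quotient.mk_surjective
    (fun φ => Ideal.Quotient.eq_zero_iff_mem) hg hgC

/-- Group-like elements lift along surjective morphisms. -/
theorem exists_lift_of_surjective [IsAlgClosed k] (f : A →ₗc[k] B) (hf : Function.Surjective f) {g : B}
    (hg : IsGroupLikeElem k g) : ∃ a, IsGroupLikeElem k a ∧ f a = g := by
  obtain ⟨x, rfl⟩ := hf g
  obtain ⟨U, hUf, hxU, hU⟩ := exists_finite_subcomod_mem (C := A) (k := k) (V := A) x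
  haveI := hUf
  let : HopfRep.Comod k A U := ComodSub.Comod.restr (HopfRep.Comod.regular k A) U hU
  haveI : Module.Finite k (coeffSpace k A U) := finite_coeffSpace
  obtain ⟨a, -, ha, hfa⟩ := exists_lift f (coeffSpace k A U) isSubcoalg_coeffSpace hg
    ⟨x, range_le_coeffSpace (ComodSub.isComodHom_subtype _ U hU) ⟨⟨x, hxU⟩, rfl⟩, rfl⟩
  exact ⟨a, ha, hfa⟩

end Groth.Agent.GrpLike79
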